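import Cfsg.Agent.H58.Crit
import Cfsg.Agent.H51.Tools
import Cfsg.Agent.HN.AutBound

/-!
# The odd part of the Schur multiplier of the Higman-Sims group is trivial (helper58)

Explicit Sylow subgroups `3 ^ 2`, `5 ^ (1 + 2)` and elements normalising them, as words in the generators `x`, `y`, `w = z y z`
of the permutation group `Q` on 100 points.
-/

set_option autoImplicit false
set_option maxRecDepth 100000

namespace Cfsg.Agent.H58.HSOdd

open Cfsg.Agent.SporadicA.PermTab Cfsg.Agent.HN.HS100 Equiv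
open Cfsg.Agent.H51.Mult
open scoped commutatorElement

/-- the three generators of `Q` -/
noncomputable def qX : Q := ⟨X, ⟨Cfsg.Agent.HN.Pres.gx, gx_mem, φ_gx⟩⟩
/-- the second generator -/
noncomputable def qY : Q := ⟨Y, ⟨Cfsg.Agent.HN.Pres.gy, gy_mem, φ_gy⟩⟩
/-- the third generator -/
noncomputable def qW : Q := ⟨Z * Y * Z, by
  refine ⟨Cfsg.Agent.HN.Pres.gz * Cfsg.Agent.HN.Pres.gy * Cfsg.Agent.HN.Pres.gz, ?_, by rw [map_mul, map_mul, φ_gy, φ_gz]⟩
  change sgn (Cfsg.Agent.HN.Pres.gz * Cfsg.Agent.HN.Pres.gy * Cfsg.Agent.HN.Pres.gz) = 1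
  rw [map_mul, map_mul, sgn_gy, sgn_gz]
  decide⟩

/-- the letters `x, x⁻¹, y, y⁻¹, w, w⁻¹` -/
noncomputable def lt : ℕ → Q
  | 0 => qX
  | 1 => qX⁻¹
  | 2 => qY
  | 3 => qY⁻¹
  | 4 => qW
  | _ => qW⁻¹

/-- the action of a letter -/
noncomputable def st (c i : ℕ) : ℕ :=
  Nat.rec (lk tX i) (fun c1 _ => Nat.rec (lk tXi i) (fun c2 _ => Nat.rec (lk tY i) (fun c3 _ => Nat.rec (lk tYi i)
    (fun c4 _ => Nat.rec (lk tZ (lk tY (lk tZ i))) (fun _ _ => lk tZ (lk tYi (lk tZ i))) c4) c3) c2) c1) c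


theorem X_val (i : Fin 100) : (X i : ℕ) = lk tX i := rfl
theorem Y_val (i : Fin 100) : (Y i : ℕ) = lk tY i := rfl
theorem Z_val (i : Fin 100) : (Z i : ℕ) = lk tZ i := rfl
theorem Xi_val (i : Fin 100) : (X⁻¹ i : ℕ) = lk tXi i := rfl
theorem Yi_val (i : Fin 100) : (Y⁻¹ i : ℕ) = lk tYi i := rfl
theorem Zi_val (i : Fin 100) : (Z⁻¹ i : ℕ) = lk tZ i := rfl

theorem lt_val (c : ℕ) (i : Fin 100) : ((lt c).1 i : ℕ) = st c i := by
  match c with
  | 0 => exact X_val i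
  | 1 => exact Xi_val i
  | 2 => exact Y_val i
  | 3 => exact Yi_val i
  | 4 =>
    show (Z (Y (Z i)) : ℕ) = _
    rw [Z_val, Y_val, Z_val]
    rfl
  | c + 5 =>
    show ((Z * Y * Z)⁻¹ i : ℕ) = _
    rw [mul_inv_rev, mul_inv_rev]
    show (Z⁻¹ (Y⁻¹ (Z⁻¹ i)) : ℕ) = _
    rw [Zi_val, Yi_val, Zi_val]
    rfl

/-- the inverse letter -/
def il : ℕ → ℕ
  | 0 => 1
  | 1 => 0
  | 2 => 3
  | 3 => 2
  | 4 => 5
  | _ => 4

theorem lt_il (c : ℕ) : lt (il c) = (lt c)⁻¹ := by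
  match c with
  | 0 => rfl
  | 1 => exact (inv_inv _).symm
  | 2 => rfl
  | 3 => exact (inv_inv _).symm
  | 4 => rfl
  | c + 5 => exact (inv_inv _).symm

/-- the value of a word -/
noncomputable def wd (w : List ℕ) : Q := (w.map lt).prod

/-- the action of a word on a point -/
noncomputable def app (w : List ℕ) (i : ℕ) : ℕ := List.rec (motive := fun _ => ℕ) i (fun c _ ih => st c ih) w

theorem wd_app (v w : List ℕ) : wd (v ++ w) = wd v * wd w := by simp [wd]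

theorem wd_cons (c : ℕ) (w : List ℕ) : wd (c :: w) = lt c * wd w := by simp [wd]

theorem app_spec (w : List ℕ) (i : Fin 100) : ((wd w).1 i : ℕ) = app w i := by
  induction w with
  | nil => rfl
  | cons c w ih =>
    rw [wd_cons]
    show ((lt c).1 ((wd w).1 i) : ℕ) = st c (app w i)
    rw [lt_val, ih]

/-- the check of the equality of two words -/
noncomputable def chk (v w : List ℕ) : Bool := allB (fun i => Nat.beq (app v i) (app w i)) 100

theorem eq_of_chk {v w : List ℕ} (h : chk v w = true) : wd v = wd w := by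
  refine Subtype.ext (Equiv.ext fun i => Fin.ext ?_)
  rw [app_spec, app_spec]
  exact Nat.eq_of_beq_eq_true ((allB_iff _ _).1 h i i.2)

theorem ne_of_pt {v w : List ℕ} {i : ℕ} (hi : i < 100) (h : Nat.beq (app v i) (app w i) = false) : wd v ≠ wd w := by
  intro e
  have h1 := app_spec v ⟨i, hi⟩
  rw [e, app_spec] at h1
  have h2 : app w i = app v i := h1
  rw [h2, Nat.beq_refl] at h
  exact Bool.false_ne_true h.symm

/-- the inverse word -/
def iv (w : List ℕ) : List ℕ := (w.map il).reverse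

/-- powers of words -/
def pw (w : List ℕ) (n : ℕ) : List ℕ := Nat.rec [] (fun _ ih => w ++ ih) n

theorem wd_iv (w : List ℕ) : wd (iv w) = (wd w)⁻¹ := by
  induction w with
  | nil => simp [iv, wd]
  | cons x w ih =>
    have h1 : wd (iv (x :: w)) = wd (iv w) * wd [il x] := by
      show wd (((x :: w).map il).reverse) = _
      rw [List.map_cons, List.reverse_cons, wd_app]
      rfl
    rw [h1, wd_cons x w, mul_inv_rev, ih]
    congr 1
    rw [wd_cons (il x) [], lt_il]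
    simp [wd]

theorem wd_pw (w : List ℕ) (n : ℕ) : wd (pw w n) = wd w ^ n := by
  induction n with
  | zero => rw [pow_zero]; rfl
  | succ n ih =>
    rw [pow_succ', ← ih, ← wd_app]
    rfl

theorem wd_nil' : wd [] = 1 := rfl

/-- the commutator of two words -/
def cm (v w : List ℕ) : List ℕ := v ++ (w ++ (iv v ++ iv w))

theorem wd_cm (v w : List ℕ) : wd (cm v w) = ⁅wd v, wd w⁆ := by
  unfold cm
  rw [wd_app, wd_app, wd_app, wd_iv, wd_iv, commutatorElement_def]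
  group

/-- the conjugate of `w` by `t` -/
def cj (t w : List ℕ) : List ℕ := t ++ (w ++ iv t)

theorem wd_cj (t w : List ℕ) : wd (cj t w) = wd t * wd w * (wd t)⁻¹ := by
  unfold cj
  rw [wd_app, wd_app, wd_iv]
  group

/-- element -/
def x5 : List ℕ := [2, 2, 0, 4, 4, 2, 0, 5, 0, 5, 5, 0, 2]
/-- element -/
def y5 : List ℕ := [3, 4, 2, 2, 5, 5, 3, 5, 5]
/-- element -/
def t5 : List ℕ := [2, 2, 2]

theorem c5 : (chk (pw x5 5) [] && chk (pw y5 5) [] && chk (cm x5 y5 ++ x5) (x5 ++ cm x5 y5) &&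
    chk (cm x5 y5 ++ y5) (y5 ++ cm x5 y5) && chk (cj t5 x5) (iv x5) && chk (cj t5 y5) (iv y5) &&
    !(Nat.beq (app (cm x5 y5) 0) (app [] 0))) = true := by
  decide +kernel

/-- element -/
def x3 : List ℕ := [2, 0, 2, 0, 2, 0, 3, 3, 0]
/-- element -/
def y3 : List ℕ := [2, 4, 0, 5, 0, 3]
/-- element -/
def t3 : List ℕ := [2, 2, 2, 0, 2, 2, 2, 0, 2, 2, 2]

theorem c3 : (chk (pw x3 3) [] && chk (pw y3 3) [] && chk (x3 ++ y3) (y3 ++ x3) &&
    chk (cj t3 x3) (pw x3 2) && chk (t3 ++ y3) (y3 ++ t3) &&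
    !(Nat.beq (app x3 0) (app [] 0)) && !(Nat.beq (app y3 0) (app [] 0)) &&
    !(Nat.beq (app y3 0) (app x3 0)) && !(Nat.beq (app y3 0) (app (pw x3 2) 0))) = true := by
  decide +kernel

theorem card_Q : Nat.card Q = 44352000 := Cfsg.Agent.HN.AutBound.card_Q

/-- **No 5-fold cover.** -/
theorem noCov_five : NoCov 5 Q := by
  have h := c5
  simp only [Bool.and_eq_true, Bool.not_eq_true'] at h
  obtain ⟨⟨⟨⟨⟨⟨h1, h2⟩, h3⟩, h4⟩, h5⟩, h6⟩, h7⟩ := h
  have e1 : wd x5 ^ 5 = 1 := by rw [← wd_pw]; exact eq_of_chk h1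
  have e2 : wd y5 ^ 5 = 1 := by rw [← wd_pw]; exact eq_of_chk h2
  have e3 : ⁅wd x5, wd y5⁆ * wd x5 = wd x5 * ⁅wd x5, wd y5⁆ := by
    rw [← wd_cm, ← wd_app, ← wd_app]; exact eq_of_chk h3
  have e4 : ⁅wd x5, wd y5⁆ * wd y5 = wd y5 * ⁅wd x5, wd y5⁆ := by
    rw [← wd_cm, ← wd_app, ← wd_app]; exact eq_of_chk h4
  have e5 : wd t5 * wd x5 * (wd t5)⁻¹ = (wd x5)⁻¹ := by
    rw [← wd_cj, ← wd_iv]; exact eq_of_chk h5
  have e6 : wd t5 * wd y5 * (wd t5)⁻¹ = (wd y5)⁻¹ := by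
    rw [← wd_cj, ← wd_iv]; exact eq_of_chk h6
  have e7 : ⁅wd x5, wd y5⁆ ≠ 1 := by
    rw [← wd_cm, ← wd_nil']; exact ne_of_pt (by norm_num) h7
  refine Cfsg.Agent.H58.Crit.noCov_heis (by norm_num) (a := wd x5) (b := wd y5) (t := wd t5) rfl e7 e3 e4
    (m := 0) (i := -1) (j := -1) (k := 0) (l := 0) ?_ ?_ ?_ (by norm_num) (by norm_num)
    (Cfsg.Agent.H51.Tools.not_dvd_index_extra (by norm_num) e1 e2 e3 e4 e7 (by rw [card_Q]; norm_num))
  · rw [e1, zpow_zero]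
  · rw [e5, zpow_zero, mul_one, zpow_neg_one]
  · rw [e6, zpow_zero, mul_one, zpow_neg_one]

/-- **No 3-fold cover.** -/
theorem noCov_three : NoCov 3 Q := by
  have h := c3
  simp only [Bool.and_eq_true, Bool.not_eq_true'] at h
  obtain ⟨⟨⟨⟨⟨⟨⟨⟨h1, h2⟩, h3⟩, h4⟩, h5⟩, n1⟩, n2⟩, n3⟩, n4⟩ := h
  have e1 : wd x3 ^ 3 = 1 := by rw [← wd_pw]; exact eq_of_chk h1
  have e2 : wd y3 ^ 3 = 1 := by rw [← wd_pw]; exact eq_of_chk h2
  have e3 : wd x3 * wd y3 = wd y3 * wd x3 := by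
    rw [← wd_app, ← wd_app]; exact eq_of_chk h3
  have e4 : wd t3 * wd x3 * (wd t3)⁻¹ = wd x3 ^ 2 := by
    rw [← wd_cj, ← wd_pw]; exact eq_of_chk h4
  have e5 : wd t3 * wd y3 * (wd t3)⁻¹ = wd y3 := by
    have : wd t3 * wd y3 = wd y3 * wd t3 := by
      rw [← wd_app, ← wd_app]; exact eq_of_chk h5
    rw [this, mul_inv_cancel_right]
  have m1 : wd x3 ≠ 1 := by rw [← wd_nil']; exact ne_of_pt (by norm_num) n1
  have m2 : wd y3 ≠ 1 := by rw [← wd_nil']; exact ne_of_pt (by norm_num) n2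
  have m3 : wd y3 ≠ wd x3 := ne_of_pt (by norm_num) n3
  have m4 : wd y3 ≠ wd x3 ^ 2 := by rw [← wd_pw]; exact ne_of_pt (by norm_num) n4
  have hyx : wd y3 ∉ Subgroup.zpowers (wd x3) := by
    intro hm
    obtain ⟨n, hn⟩ := Subgroup.mem_zpowers_iff.1 hm
    have h6 : wd x3 ^ (n % 3) = wd y3 := by
      rw [← hn]
      conv_rhs => rw [← Int.emod_add_mul_ediv n 3, zpow_add, zpow_mul]
      rw [show (wd x3 : Q) ^ (3 : ℤ) = wd x3 ^ 3 from rfl, e1, one_zpow, mul_one]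
    have h7 : 0 ≤ n % 3 := Int.emod_nonneg _ (by norm_num)
    have h8 : n % 3 < 3 := Int.emod_lt_of_pos _ (by norm_num)
    have h9 : n % 3 = 0 ∨ n % 3 = 1 ∨ n % 3 = 2 := by omega
    rcases h9 with h9 | h9 | h9 <;> rw [h9] at h6
    · rw [zpow_zero] at h6; exact m2 h6.symm
    · rw [zpow_one] at h6; exact m3 h6.symm
    · exact m4 h6.symm
  refine Cfsg.Agent.H48.Crit.noCov_sq (by norm_num) (a := wd x3) (b := wd y3) (t := wd t3) e3 e1
    (i := 2) (j := 0) (k := 0) (l := 1) ?_ ?_ (by norm_num)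
    (Cfsg.Agent.H51.Tools.not_dvd_index_sq (by norm_num) e1 e2 e3 m1 hyx (by rw [card_Q]; norm_num))
  · rw [e4, pow_zero, mul_one]
  · rw [e5, pow_zero, one_mul, pow_one]

end Cfsg.Agent.H58.HSOdd
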