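import Cfsg.Agent.H58.ASix
import Cfsg.Agent.KFacts.OddLift.SuzCov

/-!
# Words in the Suzuki group and the two configurations `A₆ = ⟨b, f, g⟩`, `3 A₆ = ⟨b, c, d c d⟩` (helper58)
-/

set_option autoImplicit false
set_option maxRecDepth 100000
set_option linter.constructorNameAsVariable false

namespace Cfsg.Agent.H58.SuzWord

open Cfsg Cfsg.Spor Cfsg.Agent.SporRec.SuzPerm Cfsg.Agent.KFacts.OddLift.SuzCov Cfsg.Agent.H58.ASix
open scoped commutatorElement

/-- the value of a word -/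
def wd (w : List Suz.Gen) : Suz := (w.map x).prod

theorem wd_nil : wd [] = 1 := rfl

theorem wd_app (v w : List Suz.Gen) : wd (v ++ w) = wd v * wd w := by simp [wd]

theorem wd_cons (c : Suz.Gen) (w : List Suz.Gen) : wd (c :: w) = x c * wd w := by simp [wd]

theorem φ_wd (w : List Suz.Gen) : φ (wd w) = (w.map gen).prod := by
  rw [wd, map_list_prod, List.map_map]
  rfl

theorem val (w : List Suz.Gen) (i : Fin 1782) : ((φ (wd w) i : Fin 1782) : ℕ) = tr w i := by
  rw [φ_wd, prod_val]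

/-- the check of the equality of two words -/
noncomputable def chk2 (v w : List Suz.Gen) : Bool :=
  allP (fun i => Bool.or (Nat.ble 1782 i) (Nat.beq (tr v i) (tr w i))) 12 0

theorem eq_of_chk {v w : List Suz.Gen} (h : chk2 v w = true) : wd v = wd w := by
  apply φ_inj
  ext i
  rw [val, val]
  have h1 := allP_spec _ 12 0 h i (Nat.zero_le _) (by norm_num; have := i.2; omega)
  rw [Bool.or_eq_true] at h1
  rcases h1 with h1 | h1
  · have := Nat.le_of_ble_eq_true h1
    have := i.2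
    omega
  · exact Nat.eq_of_beq_eq_true h1

theorem ne_of_pt {v w : List Suz.Gen} {i : ℕ} (hi : i < 1782) (h : Nat.beq (tr v i) (tr w i) = false) :
    wd v ≠ wd w := by
  intro e
  have h1 := val v ⟨i, hi⟩
  rw [e, val] at h1
  have h2 : tr w i = tr v i := h1
  rw [h2, Nat.beq_refl] at h
  exact Bool.false_ne_true h.symm

theorem x_sq (g : Suz.Gen) : x g * x g = 1 := by
  apply φ_inj
  rw [map_mul, φ_x, gen_sq, map_one]

theorem x_inv (g : Suz.Gen) : (x g)⁻¹ = x g := inv_eq_of_mul_eq_one_left (x_sq g)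

theorem wd_rev (w : List Suz.Gen) : wd w.reverse = (wd w)⁻¹ := by
  induction w with
  | nil => simp [wd]
  | cons c w ih =>
    rw [List.reverse_cons, wd_app, wd_cons c w, mul_inv_rev, ih, wd_cons c [], wd_nil, mul_one, x_inv]

/-- powers of words -/
def pw (w : List Suz.Gen) (n : ℕ) : List Suz.Gen := Nat.rec [] (fun _ ih => w ++ ih) n

theorem wd_pw (w : List Suz.Gen) (n : ℕ) : wd (pw w n) = wd w ^ n := by
  induction n with
  | zero => rw [pow_zero]; rfl
  | succ n ih =>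
    rw [pow_succ', ← ih, ← wd_app]
    rfl

/-- membership in `⟨z⟩` -/
noncomputable def chkZ (zw w : List Suz.Gen) : Bool := chk2 w [] || (chk2 w zw || chk2 w (pw zw 2))

theorem mem_of_chkZ {zw w : List Suz.Gen} (h : chkZ zw w = true) : wd w ∈ Subgroup.zpowers (wd zw) := by
  unfold chkZ at h
  rw [Bool.or_eq_true, Bool.or_eq_true] at h
  rcases h with h | h | h
  · rw [eq_of_chk h]; exact one_mem _
  · rw [eq_of_chk h]; exact Subgroup.mem_zpowers _
  · rw [eq_of_chk h, wd_pw]; exact pow_mem (Subgroup.mem_zpowers _) 2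

/-- noncommuting words, tested at the points 0 and 1 -/
noncomputable def ncm (v w : List Suz.Gen) : Bool :=
  !(Nat.beq (tr (v ++ w) 0) (tr (w ++ v) 0)) || !(Nat.beq (tr (v ++ w) 1) (tr (w ++ v) 1))

theorem ne_of_ncm {v w : List Suz.Gen} (h : ncm v w = true) : wd v * wd w ≠ wd w * wd v := by
  unfold ncm at h
  rw [Bool.or_eq_true, Bool.not_eq_true', Bool.not_eq_true'] at h
  rw [← wd_app, ← wd_app]
  rcases h with h | h
  · exact ne_of_pt (by norm_num) h
  · exact ne_of_pt (by norm_num) h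

/-- expansion of a word in the three elements `u 0, u 1, u 2` -/
def ex (u : ℕ → List Suz.Gen) (l : List ℕ) : List Suz.Gen := List.rec [] (fun c _ ih => u c ++ ih) l

theorem wd_ex (u : ℕ → List Suz.Gen) (l : List ℕ) : wd (ex u l) = E (fun i => wd (u i)) l := by
  induction l with
  | nil => rfl
  | cons c l ih =>
    show wd (u c ++ ex u l) = _
    rw [wd_app, ih]
    simp [E]

/-- the test of the conditions -/
noncomputable def test (u : ℕ → List Suz.Gen) (zw : List Suz.Gen) : Bool :=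
  chk2 (pw zw 3) [] && (chk2 (zw ++ u 0) (u 0 ++ zw) && (chk2 (zw ++ u 1) (u 1 ++ zw) && (chk2 (zw ++ u 2) (u 2 ++ zw) &&
  (chkZ zw (pw (ex u (cw 0)) 3) && (chkZ zw (pw (ex u (cw 1)) 3) && (chkZ zw (pw (ex u (cw 2)) 3) &&
  (chkZ zw (pw (ex u (cw 3)) 3) &&
  (chkZ zw (pw (ex u (cw 0 ++ cw 1)) 2) && (chkZ zw (pw (ex u (cw 0 ++ cw 2)) 2) &&
  (chkZ zw (pw (ex u (cw 0 ++ cw 3)) 2) && (chkZ zw (pw (ex u (cw 1 ++ cw 2)) 2) &&
  (chkZ zw (pw (ex u (cw 1 ++ cw 3)) 2) && (chkZ zw (pw (ex u (cw 2 ++ cw 3)) 2) &&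
  (chkZ zw ((ex u (cw 0 ++ (cw 0 ++ (cw 1 ++ (cw 3 ++ (cw 3 ++ cw 1)))))).reverse ++ u 0) &&
  (chkZ zw ((ex u (cw 0 ++ (cw 1 ++ (cw 3 ++ (cw 3 ++ cw 1))))).reverse ++ u 1) &&
  (chkZ zw ((ex u (cw 1 ++ cw 2)).reverse ++ u 2) &&
  (chkZ zw (pw (ex u [1, 2]) 4) && (ncm (pw (ex u [1, 2]) 2) (u 0) &&
  (chkZ zw (pw (ex u [0, 1, 2]) 5) && (ncm (ex u [0, 1, 2]) (u 0) &&
  (chkZ zw (pw (ex u tw) 3) &&
  (chkZ zw (ex u (cw 0) ++ (ex u tw ++ ((ex u (cw 0)).reverse ++ (ex u tw).reverse))) &&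
  (ncm (ex u (cw 0)) (u 0) &&
  (ncm (ex u tw) (u 0) && (ncm (ex u (tw ++ cw 0)) (u 0) && ncm (ex u (tw ++ (cw 0 ++ cw 0))) (u 0))))))))))))))))))))))))))

theorem data_of_test {u : ℕ → List Suz.Gen} {zw : List Suz.Gen} (hu : ∀ i, u (i + 2) = u 2)
    (h : test u zw = true) : Data (fun i => wd (u i)) (wd zw) := by
  unfold test at h
  simp only [Bool.and_eq_true] at h
  obtain ⟨h1, h2, h3, h4, h5, h6, h7, h8, h9, h10, h11, h12, h13, h14, h15, h16, h17, h18, h19, h20, h21, h22, h23,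
    h24, h25, h26, h27⟩ := h
  have mz : ∀ {w : List Suz.Gen}, chkZ zw w = true → wd w ∈ Subgroup.zpowers (wd zw) := fun h => mem_of_chkZ h
  refine ⟨?_, ?_, ?_, ?_, ?_, ?_, ?_, ?_, ?_, ?_, ?_, ?_, ?_, ?_, ?_⟩
  · rw [← wd_pw]; exact eq_of_chk h1
  · intro i
    match i with
    | 0 => rw [← wd_app, ← wd_app]; exact eq_of_chk h2
    | 1 => rw [← wd_app, ← wd_app]; exact eq_of_chk h3
    | i + 2 => rw [hu, ← wd_app, ← wd_app]; exact eq_of_chk h4
  · intro i
    rw [← wd_ex, ← wd_pw]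
    fin_cases i
    · exact mz h5
    · exact mz h6
    · exact mz h7
    · exact mz h8
  · have key : ∀ l l' : List ℕ, (E (fun i => wd (u i)) l * E (fun i => wd (u i)) l') ^ 2 =
        wd (pw (ex u (l ++ l')) 2) := by
      intro l l'
      rw [wd_pw, wd_ex, E_app]
    intro i j hij
    rw [key]
    fin_cases i <;> fin_cases j <;> first | exact absurd hij (by decide) | skip
    · exact mz h9
    · exact mz h10
    · exact mz h11
    · exact mz h12
    · exact mz h13
    · exact mz h14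
  · have := mz h15
    rw [wd_app, wd_rev, wd_ex] at this
    simpa only [E_app, mul_assoc] using this
  · have := mz h16
    rw [wd_app, wd_rev, wd_ex] at this
    simpa only [E_app, mul_assoc] using this
  · have := mz h17
    rw [wd_app, wd_rev, wd_ex] at this
    simpa only [E_app, mul_assoc] using this
  · rw [← wd_ex, ← wd_pw]; exact mz h18
  · rw [← wd_ex, ← wd_pw]; exact ne_of_ncm h19
  · rw [← wd_ex, ← wd_pw]; exact mz h20
  · rw [← wd_ex]; exact ne_of_ncm h21
  · rw [← wd_ex, ← wd_pw]; exact mz h22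
  · have := mz h23
    rw [wd_app, wd_app, wd_app, wd_rev, wd_rev, wd_ex, wd_ex] at this
    rw [commutatorElement_def]
    simpa only [mul_assoc] using this
  · rw [← wd_ex]; exact ne_of_ncm h24
  · intro i hi
    interval_cases i
    · rw [pow_zero, mul_one, ← wd_ex]; exact ne_of_ncm h25
    · rw [pow_one, ← E_app, ← wd_ex]; exact ne_of_ncm h26
    · rw [pow_two, ← E_app, ← E_app, ← wd_ex]; exact ne_of_ncm h27

/-- `b, f, g` -/
def uA : ℕ → List Suz.Gen
  | 0 => [.b]
  | 1 => [.f]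
  | _ => [.g]

/-- `b, c, d c d` -/
def uB : ℕ → List Suz.Gen
  | 0 => [.b]
  | 1 => [.c]
  | _ => [.d, .c, .d]

/-- `(b c d c d)^5` -/
def zB : List Suz.Gen := pw [.b, .c, .d, .c, .d] 5

theorem testA : test uA [] = true := by decide +kernel

theorem testB : test uB zB = true := by decide +kernel

theorem dataA : Data (fun i => wd (uA i)) 1 := data_of_test (fun _ => rfl) testA

theorem dataB : Data (fun i => wd (uB i)) (wd zB) := data_of_test (fun _ => rfl) testB

end Cfsg.Agent.H58.SuzWord
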